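import Mathlib

/-!
# Solving `p ^ u * x = a` in Witt vectors of a complete torsion free ring
-/

set_option autoImplicit false

universe u

namespace Groth.Agent.H1WittClosed

variable {p : ℕ} [hpf : Fact p.Prime] {R : Type u} [CommRing R]

variable (p R) in
/-- Witt vectors whose first `m` components lie in `p ^ t`. -/
noncomputable def K (m t : ℕ) : Ideal (WittVector p R) :=
  RingHom.ker ((WittVector.truncate (p := p) (R := R ⧸ Ideal.span {(p : R) ^ t}) m).comp
    (WittVector.map (Ideal.Quotient.mk (Ideal.span {(p : R) ^ t}))))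

theorem map_coeff_eq_iff {m t : ℕ} {x y : WittVector p R} :
    x - y ∈ K p R m t ↔ ∀ i < m, x.coeff i - y.coeff i ∈ Ideal.span {(p : R) ^ t} := by
  rw [K, RingHom.sub_mem_ker_iff, RingHom.comp_apply, RingHom.comp_apply]
  constructor
  · intro h i hi
    have := congrArg (fun z => z.coeff ⟨i, hi⟩) h
    simp only [WittVector.coeff_truncate, WittVector.map_coeff] at this
    exact Ideal.Quotient.eq.1 this
  · intro h
    refine TruncatedWittVector.ext fun i => ?_
    simp only [WittVector.coeff_truncate, WittVector.map_coeff]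
    exact Ideal.Quotient.eq.2 (h i i.isLt)

theorem mem_K {m t : ℕ} {x : WittVector p R} :
    x ∈ K p R m t ↔ ∀ i < m, x.coeff i ∈ Ideal.span {(p : R) ^ t} := by
  simpa [WittVector.zero_coeff] using map_coeff_eq_iff (x := x) (y := 0)

theorem ghost_eq (i : ℕ) (x : WittVector p R) :
    WittVector.ghostComponent i x = ∑ j ∈ Finset.range (i + 1), (p : R) ^ j * x.coeff j ^ p ^ (i - j) := by
  rw [WittVector.ghostComponent_apply, aeval_wittPolynomial]

theorem ghost_mem {m T i : ℕ} {x : WittVector p R} (hx : x ∈ K p R m T) (hi : i < m) :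
    WittVector.ghostComponent i x ∈ Ideal.span {(p : R) ^ T} := by
  rw [ghost_eq]
  exact Ideal.sum_mem _ fun j hj => Ideal.mul_mem_left _ _ (Ideal.pow_mem_of_mem _
    (mem_K.1 hx j (lt_of_le_of_lt (Nat.lt_succ_iff.1 (Finset.mem_range.1 hj)) hi)) _
    (pow_pos hpf.out.pos _))

variable (hR : ∀ y : R, (p : R) * y = 0 → y = 0)
include hR

theorem cancel : ∀ (i : ℕ) (a b : R), (p : R) ^ i * a = (p : R) ^ i * b → a = b := by
  intro i
  induction i with
  | zero => intro a b h; simpa using h
  | succ i ih =>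
    intro a b h
    rw [pow_succ', mul_assoc, mul_assoc, ← sub_eq_zero, ← mul_sub] at h
    exact ih a b (sub_eq_zero.1 (hR _ h))

theorem mem_of_mul_pow_mem {i t : ℕ} {a : R} (h : (p : R) ^ i * a ∈ Ideal.span {(p : R) ^ (t + i)}) :
    a ∈ Ideal.span {(p : R) ^ t} := by
  obtain ⟨c, hc⟩ := Ideal.mem_span_singleton'.1 h
  exact Ideal.mem_span_singleton'.2 ⟨c, cancel hR i _ _ (by rw [← hc, pow_add]; ring)⟩

theorem mem_K_of_ghost {m t : ℕ} {d : WittVector p R}
    (h : ∀ i < m, WittVector.ghostComponent i d ∈ Ideal.span {(p : R) ^ (t + m)}) : d ∈ K p R m t := by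
  rw [mem_K]
  intro i
  induction i using Nat.strong_induction_on with
  | h i ih =>
    intro hi
    rcases Nat.eq_zero_or_pos t with rfl | ht
    · rw [pow_zero, Ideal.span_singleton_one]; trivial
    refine mem_of_mul_pow_mem hR (i := i) ?_
    have h' : WittVector.ghostComponent i d ∈ Ideal.span {(p : R) ^ (t + i)} :=
      Ideal.span_singleton_le_span_singleton.2 (pow_dvd_pow _ (by omega)) (h i hi)
    rw [ghost_eq, Finset.sum_range_succ, Nat.sub_self, pow_zero, pow_one] at h'
    refine (Ideal.add_mem_iff_right _ (Ideal.sum_mem _ fun j hj => ?_)).1 h'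
    have hj' := Finset.mem_range.1 hj
    obtain ⟨c, hc⟩ := Ideal.mem_span_singleton'.1 (ih j hj' (by omega))
    refine Ideal.mem_span_singleton.2 ?_
    rw [← hc, mul_pow, ← mul_assoc, mul_comm _ (c ^ _), mul_assoc, ← pow_mul, ← pow_add]
    refine dvd_mul_of_dvd_right (pow_dvd_pow _ ?_) _
    have h1 : i - j + 1 ≤ p ^ (i - j) := Nat.lt_pow_self hpf.out.one_lt
    have h2 : t * (i - j + 1) ≤ t * p ^ (i - j) := Nat.mul_le_mul_left t h1
    rw [Nat.mul_add, Nat.mul_one] at h2
    have h3 : i - j ≤ t * (i - j) := Nat.le_mul_of_pos_left _ ht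
    omega

theorem mem_K_of_pow_mul {m u t : ℕ} {d : WittVector p R}
    (h : (p : WittVector p R) ^ u * d ∈ K p R m (t + m + u)) : d ∈ K p R m t := by
  refine mem_K_of_ghost hR fun i hi => mem_of_mul_pow_mem hR (i := u) ?_
  have := ghost_mem h hi
  rwa [map_mul, map_pow, map_natCast] at this

variable [IsAdicComplete (Ideal.span {(p : R)}) R]

omit hR in
theorem eq_zero_of_forall {y : R} (h : ∀ t : ℕ, y ∈ Ideal.span {(p : R) ^ t}) : y = 0 :=
  IsHausdorff.haus (inferInstance : IsHausdorff (Ideal.span {(p : R)}) R) y fun t => by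
    rw [SModEq.zero, smul_eq_mul, Ideal.mul_top, Ideal.span_singleton_pow]
    exact h t

theorem exists_solution (a : WittVector p R) (m u : ℕ)
    (h : ∀ s : ℕ, ∃ z : WittVector p R, (p : WittVector p R) ^ u * z - a ∈ K p R m s) :
    ∃ x : WittVector p R, ∀ i < m, ((p : WittVector p R) ^ u * x - a).coeff i = 0 := by
  choose z hz using h
  let w : ℕ → WittVector p R := fun t => z (t + m + u)
  have hmono : ∀ {t t' : ℕ}, t ≤ t' → ∀ {y : WittVector p R}, y ∈ K p R m t' → y ∈ K p R m t :=
    fun hle _ hy => mem_K.2 fun i hi =>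
      Ideal.span_singleton_le_span_singleton.2 (pow_dvd_pow _ hle) (mem_K.1 hy i hi)
  have hc : ∀ {t t' : ℕ}, t ≤ t' → w t - w t' ∈ K p R m t := fun {t t'} hle => by
    refine mem_K_of_pow_mul hR (u := u) ?_
    have e : (p : WittVector p R) ^ u * (w t - w t') = ((p : WittVector p R) ^ u * w t - a) -
        ((p : WittVector p R) ^ u * w t' - a) := by ring
    rw [e]
    exact sub_mem (hz _) (hmono (by omega) (hz _))
  have hlim : ∀ i : ℕ, i < m → ∃ L : R, ∀ t, (w t).coeff i - L ∈ Ideal.span {(p : R) ^ t} := fun i hi => by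
    obtain ⟨L, hL⟩ := IsPrecomplete.prec (inferInstance : IsPrecomplete (Ideal.span {(p : R)}) R)
      (f := fun t => (w t).coeff i) fun {t t'} hle => by
        rw [SModEq.sub_mem, smul_eq_mul, Ideal.mul_top, Ideal.span_singleton_pow]
        exact map_coeff_eq_iff.1 (hc hle) i hi
    refine ⟨L, fun t => ?_⟩
    have := hL t
    rwa [SModEq.sub_mem, smul_eq_mul, Ideal.mul_top, Ideal.span_singleton_pow] at this
  choose L hL using hlim
  let x : WittVector p R := WittVector.mk p fun i => if hi : i < m then L i hi else 0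
  refine ⟨x, fun i hi => eq_zero_of_forall (p := p) fun t => ?_⟩
  refine mem_K.1 ?_ i hi
  have e : (p : WittVector p R) ^ u * x - a =
      ((p : WittVector p R) ^ u * w t - a) - (p : WittVector p R) ^ u * (w t - x) := by ring
  rw [e]
  refine sub_mem (hmono (by omega) (hz _)) (Ideal.mul_mem_left _ _ (map_coeff_eq_iff.2 fun j hj => ?_))
  rw [WittVector.coeff_mk, dif_pos hj]
  exact hL j hj t

theorem exists_solution_of_closed (a : WittVector p R) (u : ℕ)
    (h : ∀ m s : ℕ, ∃ z : WittVector p R, (p : WittVector p R) ^ u * z - a ∈ K p R m s) :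
    ∃ x : WittVector p R, (p : WittVector p R) ^ u * x = a := by
  choose x hx using fun m => exists_solution hR a m u (h m)
  refine ⟨WittVector.mk p fun i => (x (i + 1)).coeff i, ?_⟩
  have hu : ∀ (m : ℕ) (d : WittVector p R), (∀ i < m, ((p : WittVector p R) ^ u * d).coeff i = 0) →
      ∀ i < m, d.coeff i = 0 := fun m d hd i hi => eq_zero_of_forall fun t =>
    mem_K.1 (mem_K_of_pow_mul hR (u := u) (mem_K.2 fun j hj => by rw [hd j hj]; exact Ideal.zero_mem _)) i hi
  have ker_iff : ∀ {m : ℕ} {y : WittVector p R},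
      y ∈ RingHom.ker (WittVector.truncate (p := p) (R := R) m) ↔ ∀ i < m, y.coeff i = 0 :=
    fun {m y} => WittVector.mem_ker_truncate m y
  have hcoh : ∀ {m m' : ℕ}, m ≤ m' → ∀ i < m, (x m').coeff i = (x m).coeff i := by
    intro m m' hle i hi
    have hk : x m' - x m ∈ RingHom.ker (WittVector.truncate (p := p) (R := R) m) := by
      refine ker_iff.2 (hu m _ (ker_iff.1 ?_))
      rw [show (p : WittVector p R) ^ u * (x m' - x m) = ((p : WittVector p R) ^ u * x m' - a) -
        ((p : WittVector p R) ^ u * x m - a) by ring]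
      exact sub_mem (ker_iff.2 fun j hj => hx m' j (lt_of_lt_of_le hj hle)) (ker_iff.2 (hx m))
    have := congrArg (fun z => z.coeff ⟨i, hi⟩) ((RingHom.sub_mem_ker_iff _).1 hk)
    simpa [WittVector.coeff_truncate] using this
  refine WittVector.ext fun i => ?_
  have h1 := hx (i + 1)
  have h2 : WittVector.mk p (fun j => (x (j + 1)).coeff j) - x (i + 1) ∈
      RingHom.ker (WittVector.truncate (p := p) (R := R) (i + 1)) := by
    rw [RingHom.sub_mem_ker_iff]
    refine TruncatedWittVector.ext fun j => ?_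
    simp only [WittVector.coeff_truncate, WittVector.coeff_mk]
    exact (hcoh (Nat.succ_le_of_lt j.isLt) j (Nat.lt_succ_self _)).symm
  have h3 : (p : WittVector p R) ^ u * WittVector.mk p (fun j => (x (j + 1)).coeff j) - a ∈
      RingHom.ker (WittVector.truncate (p := p) (R := R) (i + 1)) := by
    rw [show (p : WittVector p R) ^ u * WittVector.mk p (fun j => (x (j + 1)).coeff j) - a =
      (p : WittVector p R) ^ u * (WittVector.mk p (fun j => (x (j + 1)).coeff j) - x (i + 1)) +
        ((p : WittVector p R) ^ u * x (i + 1) - a) by ring]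
    exact add_mem (Ideal.mul_mem_left _ _ h2) (ker_iff.2 h1)
  exact (WittVector.coeff_truncate _ ⟨i, Nat.lt_succ_self i⟩).symm.trans
    ((congrArg (fun z => z.coeff ⟨i, Nat.lt_succ_self i⟩) ((RingHom.sub_mem_ker_iff _).1 h3)).trans
      (WittVector.coeff_truncate _ _))

end Groth.Agent.H1WittClosed
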